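import Mathlib
import Cfsg.Agent.Lib.helper17.SLP.Defs

/-!
# Project SL3P (designer helper6): S2287 (10u).  `SL₃(F)` (`F` a finite field, `|F| ≠ 9`; in fact every finite `F`)
has a presentation with 4 generators and at most 14 relations.

Definitions.  Generators `u h w` = the generators of project SLP (helper17) for the block `SL₂ ≤ SL₃` and
`c` = the permutation matrix of the 3-cycle `e₁ ↦ e₂ ↦ e₃ ↦ e₁`.  Relations = the `SL₂` list of SLP plus five relators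
`e1 … e5` (two more instances of `e5` in characteristic 2).
-/

set_option autoImplicit false

namespace Cfsg.Agent.Lib.helper6.SL3P

open Cfsg.Agent.Lib.helper17.SLP

universe u v

/-! ## Words -/

section Words

variable {G : Type u} [Group G]

/-- `w c w⁻¹ = w² c²`. -/
def e1 (w c : G) : G := w * c * w⁻¹ * (w ^ 2 * c ^ 2)⁻¹

/-- `h · h^c · h^(c²) = 1` (`h^c := c h c⁻¹`). -/
def e2 (h c : G) : G := h * (c * h * c⁻¹) * (c ^ 2 * h * (c ^ 2)⁻¹)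

/-- `[h, h^c] = 1`. -/
def e3 (h c : G) : G := cm h (c * h * c⁻¹)

/-- `h^c u h^(-c) = z` (`z` = the word of `x(ζ⁻¹)`). -/
def e4 (u h c z : G) : G := (c * h * c⁻¹) * u * (c * h * c⁻¹)⁻¹ * z⁻¹

/-- `[a, c u c⁻¹] = c⁻¹ (w a⁻¹ w⁻¹) c`: with `a = x₁₂(ε)`, `u = x₁₂(1)` this is `[x₁₂(ε), x₂₃(1)] = x₁₃(ε)`. -/
def e5 (a u w c : G) : G := cm a (c * u * c⁻¹) * (c⁻¹ * (w * a⁻¹ * w⁻¹) * c)⁻¹

variable {H : Type v} [Group H]

theorem map_e1 (φ : G →* H) (w c : G) : φ (e1 w c) = e1 (φ w) (φ c) := by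
  simp only [e1, map_mul, map_inv, map_pow]

theorem map_e2 (φ : G →* H) (h c : G) : φ (e2 h c) = e2 (φ h) (φ c) := by
  simp only [e2, map_mul, map_inv, map_pow]

theorem map_e3 (φ : G →* H) (h c : G) : φ (e3 h c) = e3 (φ h) (φ c) := by
  simp only [e3, map_cm, map_mul, map_inv]

theorem map_e4 (φ : G →* H) (u h c z : G) : φ (e4 u h c z) = e4 (φ u) (φ h) (φ c) (φ z) := by
  simp only [e4, map_mul, map_inv]

theorem map_e5 (φ : G →* H) (a u w c : G) : φ (e5 a u w c) = e5 (φ a) (φ u) (φ w) (φ c) := by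
  simp only [e5, map_cm, map_mul, map_inv]

end Words

/-! ## The free group on four generators -/

section Free

/-- the inclusion `FreeGroup (Fin 3) → FreeGroup (Fin 4)` (`0 ↦ 0`, `1 ↦ 1`, `2 ↦ 2`). -/
def inc : FreeGroup (Fin 3) →* FreeGroup (Fin 4) := FreeGroup.map Fin.castSucc

/-- the four generators of `FreeGroup (Fin 4)`. -/
abbrev fU : FreeGroup (Fin 4) := FreeGroup.of 0
abbrev fH : FreeGroup (Fin 4) := FreeGroup.of 1
abbrev fW : FreeGroup (Fin 4) := FreeGroup.of 2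
abbrev fC : FreeGroup (Fin 4) := FreeGroup.of 3

variable {G : Type u} [Group G]

/-- evaluation of a word of `FreeGroup (Fin 4)` at `u h w c`. -/
def ev4 (u h w c : G) : FreeGroup (Fin 4) →* G := FreeGroup.lift ![u, h, w, c]

@[simp] theorem ev4_fU (u h w c : G) : ev4 u h w c fU = u := by simp [ev4, fU]
@[simp] theorem ev4_fH (u h w c : G) : ev4 u h w c fH = h := by simp [ev4, fH]
@[simp] theorem ev4_fW (u h w c : G) : ev4 u h w c fW = w := by simp [ev4, fW]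
@[simp] theorem ev4_fC (u h w c : G) : ev4 u h w c fC = c := by simp [ev4, fC]

/-- evaluating an included word forgets `c`. -/
theorem ev4_inc (u h w c : G) (r : FreeGroup (Fin 3)) : ev4 u h w c (inc r) = ev u h w r := by
  have : (ev4 u h w c).comp inc = ev u h w := by
    ext i
    fin_cases i <;> simp [ev4, ev, inc]
  exact DFunLike.congr_fun this r

/-- evaluation commutes with homomorphisms (three generators). -/
theorem map_ev {H : Type v} [Group H] (φ : G →* H) (u h w : G) (r : FreeGroup (Fin 3)) :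
    φ (ev u h w r) = ev (φ u) (φ h) (φ w) r := by
  have : φ.comp (ev u h w) = ev (φ u) (φ h) (φ w) := by
    ext i
    fin_cases i <;> simp [ev]
  exact DFunLike.congr_fun this r

/-- the five relators in `FreeGroup (Fin 4)`; `wz` = an `SL₂`-word for `x(ζ⁻¹)`. -/
def words5 (wz : FreeGroup (Fin 3)) : List (FreeGroup (Fin 4)) :=
  [e1 fW fC, e2 fH fC, e3 fH fC, e4 fU fH fC (inc wz), e5 fU fU fW fC]

/-- two more Steinberg instances (`a1`, `a2` = `SL₂`-words for `x(ζ)`, `x(ζ²)`), used in characteristic 2. -/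
def words2 (a1 a2 : FreeGroup (Fin 3)) : List (FreeGroup (Fin 4)) :=
  [e5 (inc a1) fU fW fC, e5 (inc a2) fU fW fC]

end Free

/-! ## Root elements in an abstract group -/

section Abstract

variable {G : Type u} [Group G] {F : Type v}

/-- `x₂₁(t) = w x(-t) w⁻¹`. -/
def x21 [Neg F] (x : F → G) (w : G) (t : F) : G := w * x (-t) * w⁻¹

/-- `x₂₃(t) = c x(t) c⁻¹`. -/
def x23 (x : F → G) (c : G) (t : F) : G := c * x t * c⁻¹

/-- `x₃₁(t) = c⁻¹ x(t) c`. -/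
def x31 (x : F → G) (c : G) (t : F) : G := c⁻¹ * x t * c

/-- `x₃₂(t) = c x₂₁(t) c⁻¹`. -/
def x32 [Neg F] (x : F → G) (w c : G) (t : F) : G := c * (w * x (-t) * w⁻¹) * c⁻¹

/-- `x₁₃(t) = c⁻¹ x₂₁(t) c`. -/
def x13 [Neg F] (x : F → G) (w c : G) (t : F) : G := c⁻¹ * (w * x (-t) * w⁻¹) * c

/-- the second simple reflection `n₂ = c w c⁻¹`. -/
def n2 (w c : G) : G := c * w * c⁻¹

/-- the torus `T = ⟨h, c h c⁻¹⟩`. -/
def tor (h c : G) : Subgroup G := Subgroup.closure {h, c * h * c⁻¹}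

/-- `τ(a,b) = h^a (c h c⁻¹)^b`. -/
def tau (h c : G) (a b : ℤ) : G := h ^ a * (c * h * c⁻¹) ^ b

end Abstract

section Structures

variable {G : Type u} [Group G] {F : Type v} [Field F] [Fintype F]

/-- what the `SL₂` relations of SLP give in an arbitrary group. -/
structure SL2Str (ζ : Fˣ) (x : F → G) (h w : G) : Prop where
  add : ∀ s t, x (s + t) = x s * x t
  conj : ∀ t, h * x t * h⁻¹ = x ((ζ : F) ^ 2 * t)
  wh : w * h * w⁻¹ = h⁻¹
  hN : h ^ (Fintype.card F - 1) = 1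
  w2 : w ^ 2 ∈ Subgroup.zpowers h
  w4 : w ^ 4 = 1
  w2x : ∀ t, w ^ 2 * x t * (w ^ 2)⁻¹ = x t
  rk : ∀ t : F, t ≠ 0 → ∃ (s s' : F) (d : G), d ∈ Subgroup.zpowers h ∧
    w * x t * w⁻¹ = x s * d * w * x s'

/-- the five extra relations (the Steinberg relation `r5` for every `ε ∈ E`). -/
structure Rel5 (ζ : Fˣ) (E : Set F) (x : F → G) (h w c : G) : Prop where
  r1 : w * c * w⁻¹ = w ^ 2 * c ^ 2
  r2 : h * (c * h * c⁻¹) * (c ^ 2 * h * (c ^ 2)⁻¹) = 1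
  r3 : Commute h (c * h * c⁻¹)
  r4 : (c * h * c⁻¹) * x 1 * (c * h * c⁻¹)⁻¹ = x ((ζ : F)⁻¹)
  r5 : ∀ ε ∈ E, x ε * (c * x 1 * c⁻¹) * (x ε)⁻¹ * (c * x 1 * c⁻¹)⁻¹ =
    c⁻¹ * (w * (x ε)⁻¹ * w⁻¹) * c

/-- the pairs `(s,t)` reached from `(ε, 1)`, `ε ∈ E`, by the torus: `(ε ζ^(2a-b), ζ^(2b-a))`. -/
def Kset (ζ : Fˣ) (E : Set F) : Set (F × F) :=
  {p | ∃ ε ∈ E, ∃ a b : ℤ, p.1 = ε * ((ζ ^ (2 * a - b) : Fˣ) : F) ∧ p.2 = ((ζ ^ (2 * b - a) : Fˣ) : F)}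

/-- a set of pairs is rich enough to give all Steinberg relations. -/
structure KGood (K : Set (F × F)) : Prop where
  negr : ∀ s t, (s, t) ∈ K → (s, -t) ∈ K
  negl : ∀ s t, (s, t) ∈ K → (-s, t) ∈ K
  span_r : ∀ t, t ≠ 0 → AddSubgroup.closure {r | ∃ s, (s, t) ∈ K ∧ r = s * t} = ⊤
  span_l : ∀ s, s ≠ 0 → AddSubgroup.closure {r | ∃ t, (s, t) ∈ K ∧ r = s * t} = ⊤
  span_t : ∀ s, s ≠ 0 → AddSubgroup.closure {t | (s, t) ∈ K} = ⊤

end Structures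

/-! ## The abstract rank-2 count -/

section A2

variable {G : Type u} [Group G] {F : Type v} [Field F]

/-- hypotheses of the abstract `A₂` count: positive root maps `f1 f2 f3` (`α₁`, `α₂`, `α₁+α₂`), torus `T`,
reflections `n1 n2`. -/
structure A2Hyp (f1 f2 f3 : F → G) (T : Subgroup G) (n1 n2 : G) : Prop where
  add1 : ∀ s t, f1 (s + t) = f1 s * f1 t
  add2 : ∀ s t, f2 (s + t) = f2 s * f2 t
  add3 : ∀ s t, f3 (s + t) = f3 s * f3 t
  c13 : ∀ s t, Commute (f1 s) (f3 t)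
  c23 : ∀ s t, Commute (f2 s) (f3 t)
  c12 : ∀ s t, ∃ r, f1 s * f2 t * (f1 s)⁻¹ * (f2 t)⁻¹ = f3 r
  T1 : ∀ τ ∈ T, ∀ t, ∃ t', τ * f1 t * τ⁻¹ = f1 t'
  T2 : ∀ τ ∈ T, ∀ t, ∃ t', τ * f2 t * τ⁻¹ = f2 t'
  T3 : ∀ τ ∈ T, ∀ t, ∃ t', τ * f3 t * τ⁻¹ = f3 t'
  n1T : ∀ τ ∈ T, n1 * τ * n1⁻¹ ∈ T
  n2T : ∀ τ ∈ T, n2 * τ * n2⁻¹ ∈ T
  n1sq : n1 ^ 2 ∈ T
  n2sq : n2 ^ 2 ∈ T
  n1_23 : ∀ t, ∃ t', n1 * f2 t * n1⁻¹ = f3 t'
  n1_32 : ∀ t, ∃ t', n1 * f3 t * n1⁻¹ = f2 t'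
  n2_13 : ∀ t, ∃ t', n2 * f1 t * n2⁻¹ = f3 t'
  n2_31 : ∀ t, ∃ t', n2 * f3 t * n2⁻¹ = f1 t'
  rk1 : ∀ t, t ≠ 0 → ∃ (s s' : F) (τ : G), τ ∈ T ∧ n1 * f1 t * n1⁻¹ = f1 s * τ * n1 * f1 s'
  rk2 : ∀ t, t ≠ 0 → ∃ (s s' : F) (τ : G), τ ∈ T ∧ n2 * f2 t * n2⁻¹ = f2 s * τ * n2 * f2 s'
  br : n1 * n2 * n1 = n2 * n1 * n2

/-- `U = X₁ X₂ X₃`. -/
def Uset (f1 f2 f3 : F → G) : Set G := {g | ∃ a b c, g = f1 a * f2 b * f3 c}

/-- `B = U T`. -/
def Bset (f1 f2 f3 : F → G) (T : Subgroup G) : Set G :=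
  {g | ∃ v ∈ Uset f1 f2 f3, ∃ τ ∈ T, g = v * τ}

/-- the double coset `B m B`. -/
def dcos (f1 f2 f3 : F → G) (T : Subgroup G) (m : G) : Set G :=
  {g | ∃ b ∈ Bset f1 f2 f3 T, ∃ b' ∈ Bset f1 f2 f3 T, g = b * m * b'}

/-- `B m V`. -/
def bmv (f1 f2 f3 : F → G) (T : Subgroup G) (m : G) (V : Set G) : Set G :=
  {g | ∃ b ∈ Bset f1 f2 f3 T, ∃ v ∈ V, g = b * m * v}

/-- `X₂ X₃`. -/
def V23 (f2 f3 : F → G) : Set G := {g | ∃ b c, g = f2 b * f3 c}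

/-- `X₁ X₃`. -/
def V13 (f1 f3 : F → G) : Set G := {g | ∃ a c, g = f1 a * f3 c}

/-- the union of the six cells. -/
def cells (f1 f2 f3 : F → G) (T : Subgroup G) (n1 n2 : G) : Set G :=
  dcos f1 f2 f3 T 1 ∪ dcos f1 f2 f3 T n1 ∪ dcos f1 f2 f3 T n2 ∪ dcos f1 f2 f3 T (n1 * n2) ∪
    dcos f1 f2 f3 T (n2 * n1) ∪ dcos f1 f2 f3 T (n1 * n2 * n1)

end A2

/-! ## Matrices -/

section Mat

variable {F : Type u} [Field F]

/-- the block embedding `SL₂(F) → SL₃(F)`, `A ↦ diag(A, 1)`. -/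
def embF (A : Matrix.SpecialLinearGroup (Fin 2) F) : Matrix.SpecialLinearGroup (Fin 3) F :=
  ⟨!![A.1 0 0, A.1 0 1, 0; A.1 1 0, A.1 1 1, 0; 0, 0, 1], by
    have h := A.2
    rw [Matrix.det_fin_two] at h
    rw [Matrix.det_fin_three]
    simp only [Matrix.of_apply, Matrix.cons_val', Matrix.cons_val_zero, Matrix.cons_val_one,
      Matrix.cons_val_two, Matrix.empty_val', Matrix.cons_val_fin_one, Matrix.head_cons,
      Matrix.tail_cons, Matrix.head_fin_const]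
    linear_combination h⟩

theorem embF_coe (A : Matrix.SpecialLinearGroup (Fin 2) F) :
    (embF A : Matrix (Fin 3) (Fin 3) F) = !![A.1 0 0, A.1 0 1, 0; A.1 1 0, A.1 1 1, 0; 0, 0, 1] := rfl

theorem embF_one : embF (1 : Matrix.SpecialLinearGroup (Fin 2) F) = 1 := by
  apply Subtype.ext
  rw [embF_coe]
  ext i j
  fin_cases i <;> fin_cases j <;> simp

theorem embF_mul (A B : Matrix.SpecialLinearGroup (Fin 2) F) : embF (A * B) = embF A * embF B := by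
  apply Subtype.ext
  simp only [Matrix.SpecialLinearGroup.coe_mul, embF_coe]
  ext i j
  fin_cases i <;> fin_cases j <;>
    simp [Matrix.mul_apply, Fin.sum_univ_two, Fin.sum_univ_three]

/-- the block embedding as a homomorphism. -/
def emb : Matrix.SpecialLinearGroup (Fin 2) F →* Matrix.SpecialLinearGroup (Fin 3) F where
  toFun := embF
  map_one' := embF_one
  map_mul' := embF_mul

theorem emb_coe (A : Matrix.SpecialLinearGroup (Fin 2) F) :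
    (emb A : Matrix (Fin 3) (Fin 3) F) = !![A.1 0 0, A.1 0 1, 0; A.1 1 0, A.1 1 1, 0; 0, 0, 1] := rfl

/-- the permutation matrix of the 3-cycle `e₁ ↦ e₂ ↦ e₃ ↦ e₁`. -/
def cM : Matrix.SpecialLinearGroup (Fin 3) F :=
  ⟨!![0, 0, 1; 1, 0, 0; 0, 1, 0], by simp [Matrix.det_fin_three]⟩

theorem cM_coe : ((cM : Matrix.SpecialLinearGroup (Fin 3) F) : Matrix (Fin 3) (Fin 3) F) =
    !![0, 0, 1; 1, 0, 0; 0, 1, 0] := rfl

end Mat

end Cfsg.Agent.Lib.helper6.SL3P
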